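import Mathlib.RingTheory.MvPowerSeries.Expand
import Mathlib.RingTheory.PowerSeries.Substitution
import Mathlib.FieldTheory.Finite.Basic
import Mathlib.Tactic

/-! Series commuting with a Lubin–Tate polynomial `a T + b T ^ q`. -/

set_option linter.unusedSectionVars false

namespace Groth.Agent.LTLib

open MvPowerSeries

variable {σ τ : Type*} {R S : Type*} [CommRing R] [CommRing S]

/-- The substitution `X i ↦ a X i + b X i ^ q`. -/
noncomputable def base (σ : Type*) (a b : R) (q : ℕ) (i : σ) : MvPowerSeries σ R :=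
  C a * X i + C b * X i ^ q

/-- `Sol a b c q G`: `G(a X + b X ^ q) = a G + c G ^ q`. -/
def Sol (a b c : R) (q : ℕ) (G : MvPowerSeries σ R) : Prop :=
  subst (base σ a b q) G = C a * G + C c * G ^ q

theorem base_constantCoeff (a b : R) {q : ℕ} (hq : q ≠ 0) (i : σ) : constantCoeff (base σ a b q i) = 0 := by
  simp [base, zero_pow hq]

theorem hasSubst_base [Finite σ] (a b : R) {q : ℕ} (hq : q ≠ 0) : HasSubst (base σ a b q) :=
  hasSubst_of_constantCoeff_zero (base_constantCoeff a b hq)

/-- The substitution is triangular. -/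
theorem coeff_prod_base [DecidableEq σ] (a b : R) {q : ℕ} (hq : 2 ≤ q) (d m : σ →₀ ℕ) :
    coeff m (d.prod fun i e => base σ a b q i ^ e) = (if d = m then a ^ m.degree else 0) +
      (if d < m then coeff (m - d) (d.prod fun i e => (C a + C b * X i ^ (q - 1)) ^ e) else 0) := by
  have hb : ∀ i, base σ a b q i = X i * (C a + C b * X i ^ (q - 1)) := fun i => by
    rw [base, mul_add, mul_comm (X i), show X i ^ q = X i * X i ^ (q - 1) by
      rw [← pow_succ', Nat.sub_add_cancel (by omega)]]
    ring
  have hU : constantCoeff (d.prod fun i e => (C a + C b * X i ^ (q - 1)) ^ e) = a ^ d.degree := by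
    rw [map_finsuppProd, Finsupp.prod, Finsupp.degree_apply, ← Finset.prod_pow_eq_pow_sum]
    refine Finset.prod_congr rfl fun i _ => ?_
    simp [zero_pow (show q - 1 ≠ 0 by omega)]
  simp only [hb, mul_pow]
  rw [Finsupp.prod_mul, show (d.prod fun i e => (X i : MvPowerSeries σ R) ^ e) = monomial d 1 from
    (monomial_eq' (R := R) d 1).trans (by simp) |>.symm, coeff_monomial_mul, one_mul]
  by_cases hdm : d = m
  · subst hdm
    rw [if_pos le_rfl, if_pos rfl, if_neg (lt_irrefl d), add_zero, tsub_self, coeff_zero_eq_constantCoeff, hU]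
  · rw [if_neg hdm, zero_add]
    by_cases hle : d ≤ m
    · rw [if_pos hle, if_pos (lt_of_le_of_ne hle hdm)]
    · rw [if_neg hle, if_neg fun h => hle h.le]

theorem coeff_subst_base [Finite σ] (a b : R) {q : ℕ} (hq : 2 ≤ q) {G : MvPowerSeries σ R} {m : σ →₀ ℕ}
    (h : ∀ d, d < m → coeff d G = 0) : coeff m (subst (base σ a b q) G) = a ^ m.degree * coeff m G := by
  classical
  rw [coeff_subst (hasSubst_base a b (by omega)), finsum_eq_single _ m]
  · rw [coeff_prod_base a b hq, if_pos rfl, if_neg (lt_irrefl m), add_zero, smul_eq_mul, mul_comm]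
  · intro d hd
    rw [coeff_prod_base a b hq, if_neg hd, zero_add]
    split_ifs with hlt
    · rw [h d hlt, zero_smul]
    · rw [smul_zero]

theorem coeff_mul_of_lt_eq_zero {D H : MvPowerSeries σ R} (hH : constantCoeff H = 0) {m : σ →₀ ℕ}
    (h : ∀ d, d < m → coeff d D = 0) : coeff m (D * H) = 0 := by
  classical
  rw [coeff_mul]
  refine Finset.sum_eq_zero fun p hp => ?_
  rw [Finset.HasAntidiagonal.mem_antidiagonal] at hp
  rcases eq_or_ne p.2 0 with h0 | h0
  · rw [h0, coeff_zero_eq_constantCoeff, hH, mul_zero]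
  · rw [h p.1, zero_mul]
    refine lt_of_le_of_ne (hp ▸ le_self_add) fun e => h0 ?_
    rw [e] at hp
    exact (add_eq_left).mp hp

theorem coeff_pow_congr {q : ℕ} (hq : 2 ≤ q) {G G' : MvPowerSeries σ R} (hG : constantCoeff G = 0)
    (hG' : constantCoeff G' = 0) {m : σ →₀ ℕ} (h : ∀ d, d < m → coeff d G = coeff d G') :
    coeff m (G ^ q) = coeff m (G' ^ q) := by
  rw [← sub_eq_zero, ← map_sub, ← (Commute.all G G').mul_geom_sum₂]
  refine coeff_mul_of_lt_eq_zero ?_ fun d hd => by rw [map_sub, h d hd, sub_self]
  rw [map_sum]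
  refine Finset.sum_eq_zero fun i hi => ?_
  rw [map_mul, map_pow, map_pow, hG, hG']
  rcases eq_or_ne i 0 with rfl | hi0
  · rw [zero_pow (show q - 1 - 0 ≠ 0 by omega), mul_zero]
  · rw [zero_pow hi0, zero_mul]

/-- Uniqueness. -/
theorem Sol.unique [IsDomain R] [Finite σ] {a b c : R} {q : ℕ} (hq : 2 ≤ q)
    (ha : ∀ n, 2 ≤ n → a ^ n ≠ a) {G G' : MvPowerSeries σ R} (hS : Sol a b c q G) (hS' : Sol a b c q G')
    (hG : constantCoeff G = 0) (hG' : constantCoeff G' = 0)
    (hlin : ∀ i, coeff (Finsupp.single i 1) G = coeff (Finsupp.single i 1) G') : G = G' := by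
  suffices ∀ N : ℕ, ∀ m : σ →₀ ℕ, m.degree = N → coeff m G = coeff m G' from
    MvPowerSeries.ext fun m => this m.degree m rfl
  intro N
  induction N using Nat.strong_induction_on with
  | _ N ih =>
    intro m hm
    have hlt : ∀ d, d < m → coeff d G = coeff d G' := fun d hd => ih d.degree (by
      rw [← hm]
      obtain ⟨e, rfl⟩ := exists_add_of_le hd.le
      have he : e ≠ 0 := fun e0 => by subst e0; simp at hd
      rw [map_add]
      have : e.degree ≠ 0 := by rwa [ne_eq, Finsupp.degree_eq_zero_iff]
      omega) d rfl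
    rcases Nat.lt_or_ge N 2 with hN | hN
    · interval_cases N
      · rw [Finsupp.degree_eq_zero_iff] at hm
        subst hm
        simp [hG, hG']
      · obtain ⟨i, rfl⟩ := (Finsupp.range_single_one ▸ (show m ∈ {d : σ →₀ ℕ | d.degree = 1} from hm) :
          m ∈ Set.range fun i : σ => Finsupp.single i 1)
        exact hlin i
    · have hD := congrArg (coeff m) hS
      have hD' := congrArg (coeff m) hS'
      have e1 : coeff m (subst (base σ a b q) G) - coeff m (subst (base σ a b q) G') =
          a ^ m.degree * (coeff m G - coeff m G') := by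
        rw [← map_sub, ← subst_sub (hasSubst_base a b (by omega)),
          coeff_subst_base a b hq (fun d hd => by rw [map_sub, hlt d hd, sub_self]), map_sub]
      rw [hD, hD', hm] at e1
      simp only [map_add, coeff_C_mul, coeff_pow_congr hq hG hG' hlt] at e1
      have : (a ^ N - a) * (coeff m G - coeff m G') = 0 := by linear_combination -e1
      exact sub_eq_zero.mp ((mul_eq_zero.mp this).resolve_left (sub_ne_zero.mpr (ha N hN)))

/-- A series from its coefficients. -/
noncomputable def mkS (f : (σ →₀ ℕ) → R) : MvPowerSeries σ R := f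

theorem coeff_mkS (f : (σ →₀ ℕ) → R) (m : σ →₀ ℕ) : coeff m (mkS f) = f m := rfl

open Classical in
/-- Coefficients of the solution by degree. -/
noncomputable def approx (a b c : R) (q : ℕ) (L : σ → R) (dv : R → ℕ → R) : ℕ → MvPowerSeries σ R
  | 0 => 0
  | N + 1 => mkS fun m =>
      if m.degree < N then coeff m (approx a b c q L dv N)
      else if m.degree = N then
        (if h : ∃ i, m = Finsupp.single i 1 then L h.choose
        else if N < 2 then 0
        else dv (coeff m (subst (base σ a b q) (approx a b c q L dv N)) -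
          c * coeff m (approx a b c q L dv N ^ q)) N)
      else 0

theorem coeff_approx_succ (a b c : R) (q : ℕ) (L : σ → R) (dv : R → ℕ → R) {N : ℕ} {m : σ →₀ ℕ}
    (h : m.degree < N) : coeff m (approx a b c q L dv (N + 1)) = coeff m (approx a b c q L dv N) := by
  conv_lhs => rw [approx, coeff_mkS]
  exact if_pos h

theorem coeff_approx_ge (a b c : R) (q : ℕ) (L : σ → R) (dv : R → ℕ → R) {N : ℕ} {m : σ →₀ ℕ}
    (h : N ≤ m.degree) : coeff m (approx a b c q L dv N) = 0 := by
  cases N with
  | zero => simp [approx]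
  | succ N =>
    rw [approx, coeff_mkS]
    simp only [show ¬ m.degree < N by omega, show m.degree ≠ N by omega, if_false]

theorem coeff_approx_stable (a b c : R) (q : ℕ) (L : σ → R) (dv : R → ℕ → R) {N M : ℕ} {m : σ →₀ ℕ}
    (h : m.degree < N) (hNM : N ≤ M) : coeff m (approx a b c q L dv M) = coeff m (approx a b c q L dv N) := by
  induction M, hNM using Nat.le_induction with
  | base => rfl
  | succ M hM ih => rw [coeff_approx_succ _ _ _ _ _ _ (by omega), ih]

/-- Existence. -/
theorem exists_sol [IsDomain R] [Finite σ] {a b c : R} {q : ℕ} (hq : 2 ≤ q) (L : σ → R)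
    (hdiv : ∀ (P : MvPowerSeries σ R) (m : σ →₀ ℕ), constantCoeff P = 0 → 2 ≤ m.degree → coeff m P = 0 →
      ∃ x, (a - a ^ m.degree) * x = coeff m (subst (base σ a b q) P) - c * coeff m (P ^ q)) :
    ∃ G : MvPowerSeries σ R, constantCoeff G = 0 ∧ (∀ i, coeff (Finsupp.single i 1) G = L i) ∧ Sol a b c q G := by
  classical
  let dv : R → ℕ → R := fun e n => if h : ∃ x, (a - a ^ n) * x = e then h.choose else 0
  have hdv : ∀ e n, (∃ x, (a - a ^ n) * x = e) → (a - a ^ n) * dv e n = e := fun e n h => by
    simp only [dv, dif_pos h]; exact h.choose_spec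
  set A := approx a b c q L dv with hA
  let G : MvPowerSeries σ R := mkS fun m => coeff m (A (m.degree + 1))
  have hG : ∀ m N, m.degree < N → coeff m G = coeff m (A N) := fun m N h =>
    (show coeff m G = coeff m (A (m.degree + 1)) from rfl).trans
      (coeff_approx_stable a b c q L dv (Nat.lt_succ_self _) h).symm
  have hval : ∀ m : σ →₀ ℕ, coeff m G = if h : ∃ i, m = Finsupp.single i 1 then L h.choose
        else if m.degree < 2 then 0
        else dv (coeff m (subst (base σ a b q) (A m.degree)) - c * coeff m (A m.degree ^ q)) m.degree := fun m => by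
    show coeff m (A (m.degree + 1)) = _
    simp only [hA, approx]
    rw [coeff_mkS]
    simp only [lt_irrefl, if_false, if_true]
  have hG0 : constantCoeff G = 0 := by
    rw [← coeff_zero_eq_constantCoeff_apply, hval, dif_neg, if_pos (by simp)]
    rintro ⟨i, hi⟩
    simp [eq_comm (a := (0 : σ →₀ ℕ))] at hi
  have hA0 : ∀ N, constantCoeff (A N) = 0 := fun N => by
    rw [← coeff_zero_eq_constantCoeff_apply]
    rcases Nat.eq_zero_or_pos N with rfl | hN
    · exact coeff_approx_ge a b c q L dv (Nat.zero_le _)
    · rw [← hG 0 N (by simpa using hN), coeff_zero_eq_constantCoeff_apply, hG0]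
  have hdeg : ∀ d m : σ →₀ ℕ, d < m → d.degree < m.degree := fun d m hd => by
    obtain ⟨e, rfl⟩ := exists_add_of_le hd.le
    have he : e ≠ 0 := fun e0 => by subst e0; simp at hd
    have : e.degree ≠ 0 := by rwa [ne_eq, Finsupp.degree_eq_zero_iff]
    rw [map_add]; omega
  refine ⟨G, hG0, fun i => ?_, MvPowerSeries.ext fun m => ?_⟩
  · have hex : ∃ j, Finsupp.single i 1 = Finsupp.single (M := ℕ) j 1 := ⟨i, rfl⟩
    rw [hval, dif_pos hex]
    exact congrArg L (Finsupp.single_left_injective one_ne_zero hex.choose_spec).symm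
  have hsub : coeff m (subst (base σ a b q) G) =
      coeff m (subst (base σ a b q) (A m.degree)) + a ^ m.degree * coeff m G := by
    have h := coeff_subst_base a b hq (G := G - A m.degree) (m := m) fun d hd => by
      rw [map_sub, hG d m.degree (hdeg d m hd), sub_self]
    rw [subst_sub (hasSubst_base a b (by omega)), map_sub, map_sub,
      coeff_approx_ge a b c q L dv le_rfl, sub_zero] at h
    linear_combination h
  have hpow : coeff m (G ^ q) = coeff m (A m.degree ^ q) :=
    coeff_pow_congr hq hG0 (hA0 _) fun d hd => hG d m.degree (hdeg d m hd)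
  rw [hsub, map_add, coeff_C_mul, coeff_C_mul, hpow]
  rcases Nat.lt_or_ge m.degree 2 with hm | hm
  · interval_cases hmd : m.degree
    · rw [Finsupp.degree_eq_zero_iff] at hmd
      subst hmd
      simp only [coeff_zero_eq_constantCoeff_apply, map_pow, hA0, hG0, zero_pow (show q ≠ 0 by omega),
        mul_zero, add_zero]
      exact constantCoeff_subst_eq_zero (hasSubst_base a b (by omega)) (base_constantCoeff a b (by omega)) (hA0 _)
    · have h1 : ∀ d, d < m → coeff d (A 1) = 0 := fun d hd => by
        have := hdeg d m hd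
        rw [hmd, Nat.lt_one_iff, Finsupp.degree_eq_zero_iff] at this
        subst this
        rw [coeff_zero_eq_constantCoeff_apply, hA0]
      rw [coeff_subst_base a b hq h1, coeff_approx_ge a b c q L dv hmd.ge,
        coeff_pow_congr hq (hA0 1) (map_zero _) (fun d hd => by rw [h1 d hd, map_zero]),
        zero_pow (show q ≠ 0 by omega), map_zero]
      ring
  · have hnot : ¬ ∃ i, m = Finsupp.single i 1 := fun ⟨i, hi⟩ => by
      subst hi; rw [Finsupp.degree_single] at hm; omega
    have hx : coeff m G = dv (coeff m (subst (base σ a b q) (A m.degree)) - c * coeff m (A m.degree ^ q)) m.degree := by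
      rw [hval, dif_neg hnot, if_neg (by omega)]
    have h := hdv _ m.degree (hdiv (A m.degree) m (hA0 _) hm (coeff_approx_ge a b c q L dv le_rfl))
    rw [← hx] at h
    linear_combination -h

end Groth.Agent.LTLib
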