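import Groth.Agent.LTLib.Basic
import Mathlib.RingTheory.FormalGroup.Basic
import Mathlib.RingTheory.DiscreteValuationRing.Basic
import Mathlib.RingTheory.LocalRing.ResidueField.Basic

/-! Lubin–Tate series over a discrete valuation ring and over its fraction field. -/

set_option linter.unusedSectionVars false

namespace Groth.Agent.LTLib

open MvPowerSeries

variable {σ τ : Type*} {R S : Type*} [CommRing R] [CommRing S]

theorem subst_C' (e : σ → MvPowerSeries τ R) (r : R) : subst e (C r : MvPowerSeries σ R) = C r := by simp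

theorem subst_base [Finite σ] {H : σ → MvPowerSeries τ R} (hH : HasSubst H) (a b : R) {q : ℕ} (i : σ) :
    subst H (base σ a b q i) = C a * H i + C b * H i ^ q := by
  rw [base, subst_add hH, subst_mul hH, subst_mul hH, subst_pow hH, subst_X hH, subst_C', subst_C']

theorem Sol.comp [Finite σ] [Finite τ] {a b c : R} {q : ℕ} (hq : q ≠ 0) {G : MvPowerSeries σ R}
    {H : σ → MvPowerSeries τ R} (hG : Sol a b c q G) (hH : ∀ i, Sol a b b q (H i))
    (h0 : ∀ i, constantCoeff (H i) = 0) : Sol a b c q (subst H G) := by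
  have hs : HasSubst H := hasSubst_of_constantCoeff_zero h0
  have hs' : HasSubst (base σ a b q) := hasSubst_base a b hq
  have e : (fun i => subst (base τ a b q) (H i)) = fun i => subst H (base σ a b q i) :=
    funext fun i => (hH i).trans (subst_base hs a b i).symm
  unfold Sol
  rw [subst_comp_subst_apply hs (hasSubst_base a b hq), e, ← subst_comp_subst_apply hs' hs, hG,
    subst_add hs, subst_mul hs, subst_mul hs, subst_pow hs, subst_C', subst_C']

theorem Sol.X [Finite σ] (a b : R) {q : ℕ} (hq : q ≠ 0) (i : σ) :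
    Sol a b b q (MvPowerSeries.X i : MvPowerSeries σ R) :=
  subst_X (hasSubst_base a b hq) i

theorem Sol.add [Finite σ] {a b : R} {q : ℕ} (hq : q ≠ 0) {G G' : MvPowerSeries σ R}
    (h : Sol a b 0 q G) (h' : Sol a b 0 q G') : Sol a b 0 q (G + G') := by
  unfold Sol at *
  rw [subst_add (hasSubst_base a b hq), h, h', map_zero]
  ring

theorem Sol.smul [Finite σ] {a b : R} {q : ℕ} (hq : q ≠ 0) {G : MvPowerSeries σ R} (r : R)
    (h : Sol a b 0 q G) : Sol a b 0 q (r • G) := by
  unfold Sol at *
  rw [subst_smul (hasSubst_base a b hq), h, map_zero, smul_eq_C_mul, smul_eq_C_mul]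
  ring

/-- Linear coefficients of a composite. -/
theorem coeff_single_subst [Fintype σ] {G : MvPowerSeries σ R} {H : σ → MvPowerSeries τ R}
    (hG : constantCoeff G = 0) (h0 : ∀ i, constantCoeff (H i) = 0) (t : τ) :
    coeff (Finsupp.single t 1) (subst H G) =
      ∑ i, coeff (Finsupp.single i 1) G * coeff (Finsupp.single t 1) (H i) := by
  classical
  rw [coeff_subst (hasSubst_of_constantCoeff_zero h0), finsum_eq_sum_of_support_subset _
    (s := Finset.univ.image fun i : σ => Finsupp.single i 1)]
  · rw [Finset.sum_image fun i _ j _ h => Finsupp.single_left_injective one_ne_zero h]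
    refine Finset.sum_congr rfl fun i _ => ?_
    simp [Finsupp.prod_single_index]
  · intro d hd
    rw [Function.mem_support] at hd
    by_contra hne
    refine hd ?_
    rcases eq_or_ne d 0 with rfl | hd0
    · rw [coeff_zero_eq_constantCoeff_apply, hG, zero_smul]
    obtain ⟨i, hi⟩ := Finsupp.support_nonempty_iff.mpr hd0
    have hi1 : 1 ≤ d i := Nat.one_le_iff_ne_zero.mpr (Finsupp.mem_support_iff.mp hi)
    obtain ⟨e, rfl⟩ : ∃ e, d = Finsupp.single i 1 + e := ⟨d - Finsupp.single i 1,
      (add_tsub_cancel_of_le (Finsupp.single_le_iff.mpr hi1)).symm⟩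
    have he : e ≠ 0 := fun e0 => hne (by subst e0; simp)
    obtain ⟨j, hj⟩ := Finsupp.support_nonempty_iff.mpr he
    rw [Finsupp.prod_add_index' (fun _ => pow_zero _) (fun _ _ _ => pow_add _ _ _),
      Finsupp.prod_single_index (h := fun s e => H s ^ e) (pow_zero _), pow_one, coeff_mul_of_lt_eq_zero, smul_zero]
    · rw [map_finsuppProd, Finsupp.prod, Finset.prod_eq_zero hj]
      rw [map_pow, h0, zero_pow (Finsupp.mem_support_iff.mp hj)]
    · intro d hd
      have : d = 0 := by
        ext s
        have h1 := hd.le s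
        rcases eq_or_ne s t with rfl | hs
        · rw [Finsupp.single_eq_same] at h1
          rcases Nat.le_one_iff_eq_zero_or_eq_one.mp h1 with h | h
          · simpa using h
          · exfalso
            refine hd.not_ge fun u => ?_
            rcases eq_or_ne u s with rfl | hu
            · rw [Finsupp.single_eq_same, h]
            · rw [Finsupp.single_eq_of_ne hu]; exact zero_le
        · rw [Finsupp.single_eq_of_ne hs] at h1
          simpa using h1
      subst this
      rw [coeff_zero_eq_constantCoeff_apply, h0]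

theorem Sol.map [Finite σ] (φ : R →+* S) {a b c : R} {q : ℕ} (hq : q ≠ 0) {G : MvPowerSeries σ R}
    (h : Sol a b c q G) : Sol (φ a) (φ b) (φ c) q (MvPowerSeries.map φ G) := by
  have h' := congrArg (MvPowerSeries.map φ) h
  rw [map_subst (hasSubst_base a b hq)] at h'
  show subst (fun i => C (φ a) * MvPowerSeries.X i + C (φ b) * MvPowerSeries.X i ^ q) _ = _
  simpa [base] using h'

theorem hdiv_field {K : Type*} [Field K] {a b : K} {q : ℕ} (ha : ∀ n, 2 ≤ n → a ^ n ≠ a)
    (P : MvPowerSeries σ K) (m : σ →₀ ℕ) (_ : constantCoeff P = 0) (hm : 2 ≤ m.degree) (_ : coeff m P = 0) :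
    ∃ x, (a - a ^ m.degree) * x = coeff m (subst (base σ a b q) P) - 0 * coeff m (P ^ q) :=
  ⟨_, mul_div_cancel₀ _ (sub_ne_zero.mpr (ha _ hm).symm)⟩

section DVR

variable {O : Type*} [CommRing O] [IsDomain O] [IsDiscreteValuationRing O]
  [Finite (IsLocalRing.ResidueField O)] {π : O} (hπ : Irreducible π)

local notation "q₀" => Nat.card (IsLocalRing.ResidueField O)

theorem two_le_card : 2 ≤ q₀ := Finite.one_lt_card

include hπ

theorem pow_ne_self {n : ℕ} (hn : 2 ≤ n) : π ^ n ≠ π := by
  intro h
  obtain ⟨j, rfl⟩ : ∃ j, n = j + 2 := ⟨n - 2, by omega⟩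
  have e : π * (π ^ (j + 1) - 1) = 0 := by linear_combination h
  have := (mul_eq_zero.mp e).resolve_left hπ.ne_zero
  exact hπ.not_isUnit (IsUnit.of_mul_eq_one (π ^ j) (by linear_combination this))

theorem hdiv_dvr [Finite σ] (P : MvPowerSeries σ O) (m : σ →₀ ℕ) (hm : 2 ≤ m.degree) :
    ∃ x, (π - π ^ m.degree) * x = coeff m (subst (base σ π 1 q₀) P) - 1 * coeff m (P ^ q₀) := by
  classical
  let r := IsLocalRing.residue O
  have hq : (q₀ : ℕ) ≠ 0 := by have := two_le_card (O := O); omega
  have hr : r π = 0 := IsLocalRing.residue_eq_zero_iff π |>.mpr (by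
    rw [hπ.maximalIdeal_eq]; exact Ideal.mem_span_singleton_self π)
  obtain ⟨p, hp⟩ := CharP.exists (IsLocalRing.ResidueField O)
  haveI := hp
  haveI : Fintype (IsLocalRing.ResidueField O) := Fintype.ofFinite _
  obtain ⟨n, hpp, hcard⟩ := FiniteField.card (IsLocalRing.ResidueField O) p
  haveI := Fact.mk hpp
  haveI : ExpChar (IsLocalRing.ResidueField O) p := ExpChar.prime hpp
  have hcard' : q₀ = p ^ (n : ℕ) := by rw [Nat.card_eq_fintype_card, hcard]
  have hfrob : ∀ Q : MvPowerSeries σ (IsLocalRing.ResidueField O),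
      subst (fun i => (X i : MvPowerSeries σ (IsLocalRing.ResidueField O)) ^ q₀) Q = Q ^ q₀ := fun Q => by
    rw [hcard']
    have h := map_iterateFrobenius_expand p hpp.ne_zero Q (n : ℕ)
    have hid : iterateFrobenius (IsLocalRing.ResidueField O) p (n : ℕ) = RingHom.id _ := RingHom.ext fun z => by
      rw [iterateFrobenius_def, ← hcard, FiniteField.pow_card, RingHom.id_apply]
    rw [hid, map_id, RingHom.id_apply, expand, substAlgHom_apply] at h
    exact h
  have h0 : r (coeff m (subst (base σ π 1 q₀) P) - 1 * coeff m (P ^ q₀)) = 0 := by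
    rw [one_mul, map_sub, ← coeff_map, ← coeff_map, map_subst (hasSubst_base π 1 hq), map_pow, ← hfrob,
      sub_eq_zero]
    congr 2
    funext i
    simp [base, hr]
  rw [IsLocalRing.residue_eq_zero_iff, hπ.maximalIdeal_eq, Ideal.mem_span_singleton] at h0
  obtain ⟨y, hy⟩ := h0
  have hu : IsUnit (1 - π ^ (m.degree - 1)) := IsLocalRing.isUnit_one_sub_self_of_mem_nonunits _ (by
    rw [mem_nonunits_iff, isUnit_pow_iff (by omega)]; exact hπ.not_isUnit)
  obtain ⟨u, hu⟩ := hu
  refine ⟨↑u⁻¹ * y, ?_⟩
  have e : π - π ^ m.degree = π * (u : O) := by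
    rw [hu, mul_sub, mul_one, ← pow_succ', Nat.sub_add_cancel (by omega)]
  rw [e, hy, mul_assoc, Units.mul_inv_cancel_left]

theorem exists_endo [Finite σ] (L : σ → O) : ∃ G : MvPowerSeries σ O, constantCoeff G = 0 ∧
    (∀ i, coeff (Finsupp.single i 1) G = L i) ∧ Sol π 1 1 q₀ G :=
  exists_sol two_le_card L fun P m _ hm _ => hdiv_dvr hπ P m hm

theorem endo_unique [Finite σ] {G G' : MvPowerSeries σ O} (hS : Sol π 1 1 q₀ G) (hS' : Sol π 1 1 q₀ G')
    (hG : constantCoeff G = 0) (hG' : constantCoeff G' = 0)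
    (hlin : ∀ i, coeff (Finsupp.single i 1) G = coeff (Finsupp.single i 1) G') : G = G' :=
  hS.unique two_le_card (fun _ => pow_ne_self hπ) hS' hG hG' hlin

theorem subst_f {f : PowerSeries O} (hf : f = π • PowerSeries.X + PowerSeries.X ^ q₀)
    {G : MvPowerSeries σ O} (hG : constantCoeff G = 0) :
    PowerSeries.subst G f = C π * G + C 1 * G ^ q₀ := by
  have h := PowerSeries.HasSubst.of_constantCoeff_zero hG
  rw [hf, PowerSeries.subst_add h, PowerSeries.subst_smul h, PowerSeries.subst_pow h, PowerSeries.subst_X h,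
    smul_eq_C_mul, map_one, one_mul]

theorem base_eq {f : PowerSeries O} (hf : f = π • PowerSeries.X + PowerSeries.X ^ q₀) :
    (fun i : σ => PowerSeries.subst (X i : MvPowerSeries σ O) f) = base σ π 1 q₀ :=
  funext fun i => subst_f hπ hf (constantCoeff_X i)

theorem base_unit {f : PowerSeries O} (hf : f = π • PowerSeries.X + PowerSeries.X ^ q₀) :
    (fun _ : Unit => f) = base Unit π 1 q₀ := by
  funext i
  have e : (PowerSeries.X : PowerSeries O) = X () := rfl
  rw [hf, base, e, smul_eq_C_mul, map_one, one_mul]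

theorem sol_iff_series {f g : PowerSeries O} (hf : f = π • PowerSeries.X + PowerSeries.X ^ q₀)
    (hg0 : g.constantCoeff = 0) :
    Sol π 1 1 q₀ (g : MvPowerSeries Unit O) ↔ PowerSeries.subst g f = PowerSeries.subst f g := by
  unfold Sol
  rw [← base_unit hπ hf, ← subst_f hπ hf (G := (g : MvPowerSeries Unit O)) hg0]
  exact eq_comm

theorem sol_iff_mv {f : PowerSeries O} (hf : f = π • PowerSeries.X + PowerSeries.X ^ q₀)
    {G : MvPowerSeries σ O} (hG : constantCoeff G = 0) :
    Sol π 1 1 q₀ G ↔
      PowerSeries.subst G f = MvPowerSeries.subst (fun i => PowerSeries.subst (X i : MvPowerSeries σ O) f) G := by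
  unfold Sol
  rw [← base_eq hπ hf, subst_f hπ hf hG]
  exact eq_comm

end DVR

end Groth.Agent.LTLib
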